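import Groth.Agent.Lib.ExtPowX.Alg
import Mathlib.LinearAlgebra.ExteriorPower.Basic
import Mathlib.LinearAlgebra.ExteriorAlgebra.OfAlternating
import Mathlib.RingTheory.IsTensorProduct
import Mathlib.LinearAlgebra.Alternating.Basic
import Mathlib.RingTheory.TensorProduct.Basic

/-!
# Exterior powers commute with base change
-/

set_option autoImplicit false
set_option maxHeartbeats 1000000

universe u

open TensorProduct

namespace GrothLib.ExtPowBC1

variable {A B : Type u} [CommRing A] [CommRing B] [Algebra A B]
variable {M : Type u} [AddCommGroup M] [Module A M]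
variable {M' : Type u} [AddCommGroup M'] [Module A M'] [Module B M'] [IsScalarTower A B M']

/-- An additive map out of the base change of a module has square zero values if it does on `M`. -/
theorem sq_zero {E : Type*} [Ring E] [Algebra A E] (f : M →ₗ[A] E) (hf : ∀ m, f m * f m = 0)
    (x : B ⊗[A] M) :
    f.baseChange B x * f.baseChange B x = 0 := by
  have anti : ∀ m n, f m * f n + f n * f m = 0 := fun m n => by
    have := hf (m + n)
    rwa [map_add, add_mul, mul_add, mul_add, hf, hf, zero_add, add_zero] at this
  have cross : ∀ x y : B ⊗[A] M, f.baseChange B x * f.baseChange B y + f.baseChange B y * f.baseChange B x = 0 := by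
    intro x y
    induction x using TensorProduct.induction_on with
    | zero => simp
    | add a b ha hb =>
      rw [map_add, add_mul, mul_add, add_add_add_comm, ha, hb, add_zero]
    | tmul b m =>
      induction y using TensorProduct.induction_on with
      | zero => simp
      | add a c ha hc =>
        rw [map_add, add_mul, mul_add, add_add_add_comm, ha, hc, add_zero]
      | tmul c n =>
        simp only [LinearMap.baseChange_tmul, Algebra.TensorProduct.tmul_mul_tmul]
        rw [mul_comm c b, ← TensorProduct.tmul_add, anti, TensorProduct.tmul_zero]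
  induction x using TensorProduct.induction_on with
  | zero => simp
  | add a b ha hb => rw [map_add, add_mul, mul_add, mul_add, ha, hb, zero_add, add_zero, cross]
  | tmul b m => simp [LinearMap.baseChange_tmul, Algebra.TensorProduct.tmul_mul_tmul, hf]

/-- Exterior powers commute with base change. -/
theorem isBaseChange_exteriorPower (p : M →ₗ[A] M') (hp : IsBaseChange B p) (k : ℕ)
    (P : ↥(⋀[A]^k M) →ₗ[A] ↥(⋀[B]^k M'))
    (hP : ∀ v, P (exteriorPower.ιMulti A k v) = exteriorPower.ιMulti B k fun i => p (v i)) :
    IsBaseChange B P := by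
  let Θ : B ⊗[A] ↥(⋀[A]^k M) →ₗ[B] ↥(⋀[B]^k M') := P.liftBaseChange B
  suffices hΘ : Function.Bijective Θ from
    IsBaseChange.of_equiv (LinearEquiv.ofBijective Θ hΘ) fun z => by simp [Θ]
  have hPι : ∀ v, Θ ((1 : B) ⊗ₜ[A] exteriorPower.ιMulti A k v) = exteriorPower.ιMulti B k fun i => p (v i) :=
    fun v => by simp [Θ, hP]
  constructor
  · let g : M →ₗ[A] ExteriorAlgebra A M := ExteriorAlgebra.ι A
    let e : M' →ₗ[B] B ⊗[A] ExteriorAlgebra A M := g.baseChange B ∘ₗ hp.equiv.symm.toLinearMap
    let Ψ : ExteriorAlgebra B M' →ₐ[B] B ⊗[A] ExteriorAlgebra A M :=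
      ExteriorAlgebra.lift B ⟨e, fun m => sq_zero g (fun m => ExteriorAlgebra.ι_sq_zero m) _⟩
    let ρ : ExteriorAlgebra A M →ₗ[A] ↥(⋀[A]^k M) :=
      ExteriorAlgebra.liftAlternating (Pi.single k (exteriorPower.ιMulti A k))
    have he : ∀ m, Ψ (ExteriorAlgebra.ι B (p m)) = (1 : B) ⊗ₜ[A] ExteriorAlgebra.ι A m := fun m => by
      rw [ExteriorAlgebra.lift_ι_apply]
      show g.baseChange B (hp.equiv.symm (p m)) = _
      rw [hp.equiv_symm_apply, LinearMap.baseChange_tmul]
    let R : ↥(⋀[B]^k M') →ₗ[B] B ⊗[A] ↥(⋀[A]^k M) :=
      ρ.baseChange B ∘ₗ Ψ.toLinearMap ∘ₗ (Submodule.subtype _)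
    have hR : R ∘ₗ Θ = LinearMap.id := by
      refine TensorProduct.AlgebraTensorModule.ext fun b z => ?_
      rw [show b ⊗ₜ[A] z = b • ((1 : B) ⊗ₜ[A] z) by rw [TensorProduct.smul_tmul', smul_eq_mul, mul_one],
        map_smul, map_smul]
      congr 1
      have hz : z ∈ Submodule.span A (Set.range (exteriorPower.ιMulti A k (M := M))) := by
        rw [exteriorPower.ιMulti_span]; exact Submodule.mem_top
      induction hz using Submodule.span_induction with
      | mem y hy =>
        obtain ⟨v, rfl⟩ := hy
        show R (Θ _) = _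
        rw [hPι]
        show ρ.baseChange B (Ψ ((exteriorPower.ιMulti B k fun i => p (v i)) : ExteriorAlgebra B M')) = _
        rw [exteriorPower.ιMulti_apply_coe, ExteriorAlgebra.ιMulti_apply, map_list_prod, List.map_ofFn]
        rw [show (List.ofFn (⇑Ψ ∘ fun i => (ExteriorAlgebra.ι B) (p (v i)))) =
          List.map (Algebra.TensorProduct.includeRight : ExteriorAlgebra A M →ₐ[A] B ⊗[A] ExteriorAlgebra A M)
            (List.ofFn fun i => ExteriorAlgebra.ι A (v i)) by
          rw [List.map_ofFn]; exact congrArg List.ofFn (funext fun i => he (v i)),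
          ← map_list_prod, Algebra.TensorProduct.includeRight_apply, LinearMap.baseChange_tmul,
          ← ExteriorAlgebra.ιMulti_apply, ExteriorAlgebra.liftAlternating_apply_ιMulti, Pi.single_eq_same]
        rfl
      | zero => simp
      | add a b _ _ ha hb => simp only [TensorProduct.tmul_add, map_add, ha, hb]
      | smul c a _ ha =>
        rw [TensorProduct.tmul_smul, ← algebraMap_smul B c ((1 : B) ⊗ₜ[A] a), map_smul, map_smul, ha]
    exact Function.LeftInverse.injective (g := R) fun x => LinearMap.congr_fun hR x
  · rw [← LinearMap.range_eq_top, ← top_le_iff, ← exteriorPower.ιMulti_span, Submodule.span_le]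
    rintro _ ⟨w, rfl⟩
    let φ : (M →₀ B) →ₗ[B] M' := Finsupp.linearCombination B p
    have hφ : Function.Surjective φ := fun y => by
      rw [← LinearMap.mem_range, Finsupp.range_linearCombination]
      induction y using hp.inductionOn with
      | zero => exact Submodule.zero_mem _
      | tmul m => exact Submodule.subset_span ⟨m, rfl⟩
      | smul c y hy => exact Submodule.smul_mem _ c hy
      | add y z hy hz => exact Submodule.add_mem _ hy hz
    choose w' hw' using fun i => hφ (w i)
    obtain rfl : (fun i => φ (w' i)) = w := funext hw'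
    let N := LinearMap.range Θ
    have h0 : N.mkQ.compAlternatingMap ((exteriorPower.ιMulti B k).compLinearMap φ) = 0 := by
      refine Module.Basis.ext_alternating Finsupp.basisSingleOne fun v _ => ?_
      rw [AlternatingMap.zero_apply, LinearMap.compAlternatingMap_apply, AlternatingMap.compLinearMap_apply,
        Submodule.mkQ_apply, Submodule.Quotient.mk_eq_zero]
      refine ⟨(1 : B) ⊗ₜ[A] exteriorPower.ιMulti A k v, ?_⟩
      rw [hPι]
      exact congrArg _ (funext fun i => by simp [φ])
    have := AlternatingMap.congr_fun h0 w'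
    rw [AlternatingMap.zero_apply, LinearMap.compAlternatingMap_apply, AlternatingMap.compLinearMap_apply,
      Submodule.mkQ_apply, Submodule.Quotient.mk_eq_zero] at this
    exact this

end GrothLib.ExtPowBC1
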