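import Groth.Agent.Lib.ExtPowBC1.Alg
import Groth.Agent.Lib.ExtPowX.Pullback
import Groth.Agent.Lib.ExtPowQc.Affine
import Groth.Agent.Lib.DetMod12.ExtCoh
import Groth.Agent.Lib.BCCoh.PullSec
import Groth.Agent.Lib.OmegaLocal4.Affine
import Groth.Agent.S5005
import Groth.Agent.S9370

/-!
# Exterior powers of quasi-coherent modules commute with pullback
-/

set_option autoImplicit false
set_option backward.isDefEq.respectTransparency false
set_option linter.style.haveILetI false
set_option maxHeartbeats 1000000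

universe u

open CategoryTheory AlgebraicGeometry TopologicalSpace Opposite
open GrothLib.InvExt (mres)
open GrothLib.BCCoh (pullRes)
open GrothLib.ExtPowX (extMap extMap_ιMulti eta mres_eta wRes wRes_ιMulti wedge pullL cmp cmp_eta cmpApp)

noncomputable section

namespace GrothLib.ExtPowBC1

variable {X Y : Scheme.{u}} (f : X ⟶ Y) (E : Y.Modules) [E.IsQuasicoherent] (k : ℕ)

theorem nonempty_wedge_iso :
    Nonempty ((Scheme.Modules.pullback f).obj (wedge E k) ≅ wedge ((Scheme.Modules.pullback f).obj E) k) := by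
  let F := (Scheme.Modules.pullback f).obj E
  haveI : F.IsQuasicoherent := FittSheaf.isQuasicoherent_pullback f E
  haveI : (wedge E k).IsQuasicoherent := DetMod12.isQuasicoherent_of_isExtPow (ExtPowQc.isExtPow_wedge E k)
  let α := ((Scheme.Modules.pullbackPushforwardAdjunction f).homEquiv _ _).symm (cmp f E k)
  let ι := {U' : X.affineOpens // ∃ U : Y.affineOpens, U'.1 ≤ f ⁻¹ᵁ U.1}
  have hB : Opens.IsBasis (Set.range fun i : ι => i.1.1) := by
    rw [Opens.isBasis_iff_nbhd]
    intro W x hx
    obtain ⟨U, hU, hxU, -⟩ := exists_isAffineOpen_mem_and_subset (x := f.base x) (U := ⊤) trivial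
    obtain ⟨U', hU', hxU', hle⟩ := exists_isAffineOpen_mem_and_subset
      (show x ∈ W ⊓ f ⁻¹ᵁ U from ⟨hx, hxU⟩)
    exact ⟨U', ⟨⟨⟨U', hU'⟩, ⟨U, hU⟩, fun _ h => (hle h).2⟩, rfl⟩, hxU', fun _ h => (hle h).1⟩
  have hbij : ∀ i : ι, Function.Bijective (α.app i.1.1) := by
    rintro ⟨⟨U', hU'⟩, ⟨U, hU⟩, hle⟩
    let φ := (f.appLE U U' hle).hom
    letI : Algebra Γ(Y, U) Γ(X, U') := φ.toAlgebra
    letI : Module Γ(Y, U) Γ((Scheme.Modules.pullback f).obj E, U') := Module.compHom _ φ
    haveI : IsScalarTower Γ(Y, U) Γ(X, U') Γ((Scheme.Modules.pullback f).obj E, U') :=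
      IsScalarTower.of_algebraMap_smul fun _ _ => rfl
    letI : Module Γ(Y, U) Γ((Scheme.Modules.pullback f).obj (wedge E k), U') := Module.compHom _ φ
    haveI : IsScalarTower Γ(Y, U) Γ(X, U') Γ((Scheme.Modules.pullback f).obj (wedge E k), U') :=
      IsScalarTower.of_algebraMap_smul fun _ _ => rfl
    obtain ⟨p, hp, hps⟩ := BCCoh.isBaseChange_pullRes f E hU hU' hle
    obtain ⟨q, hq, hqs⟩ := BCCoh.isBaseChange_pullRes f (wedge E k) hU hU' hle
    let pσ : Γ(E, U) →ₛₗ[φ] Γ((Scheme.Modules.pullback f).obj E, U') :=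
      { toFun := p, map_add' := map_add p, map_smul' := fun r x => p.map_smul r x }
    let P : ↥(⋀[Γ(Y, U)]^k Γ(E, U)) →ₗ[Γ(Y, U)] ↥(⋀[Γ(X, U')]^k Γ((Scheme.Modules.pullback f).obj E, U')) :=
      { toFun := extMap k pσ, map_add' := map_add (extMap k pσ), map_smul' := fun r x => ((extMap k pσ).map_smulₛₗ r x).trans (IsScalarTower.algebraMap_smul Γ(X, U') r _) }
    have hP : IsBaseChange Γ(X, U') P := isBaseChange_exteriorPower p hp k P fun v => extMap_ιMulti k pσ v
    let ηU := LinearEquiv.ofBijective (eta E k U) (ExtPowQc.bijective_eta E k hU)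
    let ηU' := LinearEquiv.ofBijective (eta F k U') (ExtPowQc.bijective_eta F k hU')
    let αl : Γ((Scheme.Modules.pullback f).obj (wedge E k), U') →ₗ[Γ(X, U')]
        Γ(wedge ((Scheme.Modules.pullback f).obj E) k, U') :=
      { toFun := fun x => α.app U' x
        map_add' := map_add (α.app U').hom
        map_smul' := fun c x => Scheme.Modules.Hom.app_smul α c x }
    have hkey : ∀ z, αl (q (ηU z)) = ηU' (P z) := fun z => by
      show α.app U' (q (eta E k U z)) = _
      rw [hqs, ModDesc.homEquiv_symm_pullRes, cmp_eta]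
      show mres (wedge _ k) hle (eta _ k _ (extMap k (pullL f E U) z)) = _
      rw [mres_eta]
      refine congrArg (eta F k U') ?_
      have hz : z ∈ Submodule.span Γ(Y, U) (Set.range (exteriorPower.ιMulti Γ(Y, U) k (M := Γ(E, U)))) := by
        rw [exteriorPower.ιMulti_span]; exact Submodule.mem_top
      induction hz using Submodule.span_induction with
      | mem y hy =>
        obtain ⟨v, rfl⟩ := hy
        rw [extMap_ιMulti, wRes_ιMulti]
        show _ = extMap k pσ _
        rw [extMap_ιMulti]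
        refine congrArg _ (funext fun j => ?_)
        show mres _ hle (pullRes f E U (f ⁻¹ᵁ U) le_rfl _) = p _
        rw [hps]
        exact (BCCoh.pullRes_res f E le_rfl le_rfl hle hle _).trans (congrArg _ (CohPullLib.map_sec_self E le_rfl _))
      | zero => simp
      | add a b _ _ ha hb => simp only [map_add, ha, hb]
      | smul c a _ ha =>
        rw [(extMap k (pullL f E U)).map_smulₛₗ, (wRes ((Scheme.Modules.pullback f).obj E) k hle).map_smulₛₗ, ha,
          P.map_smul, ← IsScalarTower.algebraMap_smul Γ(X, U') c (P a)]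
        refine congrArg (· • P a) ?_
        exact ConcreteCategory.congr_hom (Scheme.Hom.appLE_map f le_rfl (homOfLE hle).op) c
    -- both sides are base changes of the wedge of `Γ(E, U)`
    let q' : ↥(⋀[Γ(Y, U)]^k Γ(E, U)) →ₗ[Γ(Y, U)] Γ((Scheme.Modules.pullback f).obj (wedge E k), U') :=
      q ∘ₗ ηU.toLinearMap
    have hq' : IsBaseChange Γ(X, U') q' :=
      (IsBaseChange.ofEquiv ηU).comp hq
    have : αl = (hq'.equiv.symm ≪≫ₗ hP.equiv ≪≫ₗ ηU').toLinearMap := by
      refine hq'.algHom_ext _ _ fun z => ?_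
      rw [show αl (q' z) = ηU' (P z) from hkey z]
      show ηU' (P z) = ηU' (hP.equiv (hq'.equiv.symm (q' z)))
      rw [hq'.equiv_symm_apply, hP.equiv_tmul, one_smul]
    show Function.Bijective αl
    rw [this]
    exact LinearEquiv.bijective _
  obtain ⟨φ, -⟩ := AffHom.exists_iso_basis (B := fun i : ι => i.1.1) hB
    (fun i => LinearEquiv.ofBijective
      ({ toFun := fun x => α.app i.1.1 x
         map_add' := map_add (α.app i.1.1).hom
         map_smul' := fun c x => Scheme.Modules.Hom.app_smul α c x } :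
        Γ((Scheme.Modules.pullback f).obj (wedge E k), i.1.1) →ₗ[Γ(X, i.1.1)] _) (hbij i))
    fun i j h m => (CohPullLib.app_res α h m).symm
  exact ⟨φ⟩

/-- Pullbacks of exterior powers of quasi-coherent modules, along an identification of the pullback. -/
theorem isExtPow_pullback {L : Y.Modules} (hL : ExtPow.IsExtPow k E L) {E' : X.Modules}
    (e : (Scheme.Modules.pullback f).obj E ≅ E') :
    ExtPow.IsExtPow k E' ((Scheme.Modules.pullback f).obj L) := by
  haveI : ((Scheme.Modules.pullback f).obj E).IsQuasicoherent := FittSheaf.isQuasicoherent_pullback f E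
  haveI : E'.IsQuasicoherent := QCoh.isQuasicoherent_of_iso e
  obtain ⟨a⟩ := ExtPowX.nonempty_iso hL (ExtPowQc.isExtPow_wedge E k) (Iso.refl E)
  obtain ⟨b⟩ := nonempty_wedge_iso f E k
  obtain ⟨c⟩ := ExtPowX.nonempty_iso (ExtPowQc.isExtPow_wedge ((Scheme.Modules.pullback f).obj E) k)
    (ExtPowQc.isExtPow_wedge E' k) e
  exact ExtPowX.isExtPow_of_iso (ExtPowQc.isExtPow_wedge E' k)
    ((Scheme.Modules.pullback f).mapIso a ≪≫ b ≪≫ c).symm

/-- For a square whose comparison of differentials is invertible. -/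
theorem isExtPow_omega {X S X' S' : Scheme.{u}} (f : X ⟶ S) (f' : X' ⟶ S') (g : X' ⟶ X) (h : S' ⟶ S)
    (w : g ≫ f = f' ≫ h) [QuasiSeparated f] [QuasiSeparated f'] (p : ℕ) (L : X.Modules)
    (hL : ExtPow.IsExtPow p (Omega.sheaf f) L)
    (hiso : ∀ c : (Scheme.Modules.pullback g).obj (Omega.sheaf f) ⟶ Omega.sheaf f',
      OmegaSh.IsDiffCompat g (OmegaSh.dOmega f) (OmegaSh.dOmega f') c → IsIso c) :
    ExtPow.IsExtPow p (Omega.sheaf f') ((Scheme.Modules.pullback g).obj L) := by
  have hd := Groth.Agent.S5005.result f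
  have hd' := Groth.Agent.S5005.result f'
  haveI : (Omega.sheaf f).IsQuasicoherent := OmegaLocal4.isQuasicoherent hd
  obtain ⟨c, hc, -⟩ := Groth.Agent.S9370.result f f' g h w.symm (Omega.sheaf f) (OmegaSh.dOmega f) hd
    (Omega.sheaf f') (OmegaSh.dOmega f') hd'
  haveI := hiso c hc
  exact isExtPow_pullback g (Omega.sheaf f) p hL (asIso c)

end GrothLib.ExtPowBC1
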